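import Mathlib
/-!
Descent of "unramified at a point" along base change.
-/
universe u
open AlgebraicGeometry CategoryTheory CategoryTheory.Limits TensorProduct
set_option backward.isDefEq.respectTransparency false
set_option linter.style.haveILetI false

namespace Groth.Agent.UnramPt

theorem nontrivial_tensor_field {K L M : Type u} [Field K] [Field L] [Algebra K L] [AddCommGroup M]
    [Module K M] [Nontrivial M] : Nontrivial (L ⊗[K] M) :=
  Module.FaithfullyFlat.lTensor_nontrivial K L M

theorem nontrivial_tensor_of_tower {A K L M : Type u} [CommRing A] [Field K] [Field L] [Algebra A K]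
    [Algebra A L] [Algebra K L] [IsScalarTower A K L] [AddCommGroup M] [Module A M]
    (h : Nontrivial (K ⊗[A] M)) : Nontrivial (L ⊗[A] M) := by
  haveI := h
  haveI := nontrivial_tensor_field (K := K) (L := L) (M := K ⊗[A] M)
  exact (AlgebraTensorModule.cancelBaseChange A K L L M).symm.toEquiv.nontrivial

theorem mem_unramifiedLocus_of_isPushout {R A R' A' : Type u} [CommRing R] [CommRing A] [CommRing R']
    [CommRing A'] [Algebra R A] [Algebra R R'] [Algebra R A'] [Algebra A A'] [Algebra R' A']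
    [IsScalarTower R A A'] [IsScalarTower R R' A'] [Algebra.IsPushout R R' A A']
    [Algebra.FiniteType R A] (q' : PrimeSpectrum A')
    (h : q' ∈ Algebra.unramifiedLocus R' A') :
    PrimeSpectrum.comap (algebraMap A A') q' ∈ Algebra.unramifiedLocus R A := by
  rw [Algebra.unramifiedLocus_eq_compl_support, Set.mem_compl_iff] at h ⊢
  let q := q'.asIdeal.comap (algebraMap A A')
  intro hq
  apply h
  let e := KaehlerDifferential.tensorKaehlerEquiv R R' A A'
  haveI : Module.Finite A' Ω[A'⁄R'] := Module.Finite.equiv e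
  rw [Module.mem_support_iff_nontrivial_residueField_tensorProduct] at hq ⊢
  change Nontrivial (q.ResidueField ⊗[A] Ω[A⁄R]) at hq
  let m : q.ResidueField →ₐ[A] q'.asIdeal.ResidueField :=
    Ideal.ResidueField.mapₐ q q'.asIdeal (Algebra.ofId A A') rfl
  letI : Algebra q.ResidueField q'.asIdeal.ResidueField := m.toRingHom.toAlgebra
  haveI : IsScalarTower A q.ResidueField q'.asIdeal.ResidueField :=
    IsScalarTower.of_algebraMap_eq fun a => (m.commutes a).symm
  have h2 : Nontrivial (q'.asIdeal.ResidueField ⊗[A] Ω[A⁄R]) := nontrivial_tensor_of_tower hq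
  exact ((AlgebraTensorModule.cancelBaseChange A A' q'.asIdeal.ResidueField q'.asIdeal.ResidueField
      Ω[A⁄R]).symm ≪≫ₗ AlgebraTensorModule.congr
        (LinearEquiv.refl q'.asIdeal.ResidueField q'.asIdeal.ResidueField) e).symm.toEquiv.nontrivial

theorem mem_unramifiedLocus_appLE {R A R' A' : CommRingCat.{u}} {φ : R ⟶ A} {g : R ⟶ R'} {inl : A ⟶ A'}
    {inr : R' ⟶ A'} (h : IsPushout φ g inl inr) (hφ : φ.hom.FiniteType) (q' : PrimeSpectrum A')
    (b : A') (hb : b ∉ q'.asIdeal) {B : CommRingCat.{u}} (ψ : A' ⟶ B)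
    (hB : letI := ψ.hom.toAlgebra; IsLocalization.Away b B) (hu : (inr ≫ ψ).hom.FormallyUnramified) :
    ∃ a : A, a ∉ q'.asIdeal.comap inl.hom ∧
      (φ ≫ CommRingCat.ofHom (algebraMap A (Localization.Away a))).hom.FormallyUnramified := by
  algebraize [φ.hom, g.hom, inl.hom, inr.hom, inl.hom.comp φ.hom, ψ.hom, (inr ≫ ψ).hom]
  haveI : IsScalarTower R R' A' := .of_algebraMap_eq' congr($(h.w).hom)
  haveI : IsScalarTower R' A' B := .of_algebraMap_eq' rfl
  haveI : Algebra.IsPushout R A R' A' := CommRingCat.isPushout_iff_isPushout.mp h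
  haveI : Algebra.IsPushout R R' A A' := Algebra.IsPushout.symm inferInstance
  haveI := hB
  haveI : Algebra.FormallyUnramified R' (Localization.Away b) :=
    Algebra.FormallyUnramified.of_equiv
      ((IsLocalization.algEquiv (.powers b) B (Localization.Away b)).restrictScalars R')
  have hmem : q' ∈ Algebra.unramifiedLocus R' A' :=
    Algebra.basicOpen_subset_unramifiedLocus_iff.2 ‹_› hb
  have := mem_unramifiedLocus_of_isPushout (R := R) (A := A) q' hmem
  haveI : Algebra.IsUnramifiedAt R (q'.asIdeal.comap (algebraMap A A')) := this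
  obtain ⟨a, ha, hfu⟩ := Algebra.exists_formallyUnramified_of_isUnramifiedAt (R := R)
    (q'.asIdeal.comap (algebraMap A A'))
  refine ⟨a, ha, ?_⟩
  rw [CommRingCat.hom_comp, CommRingCat.hom_ofHom]
  have he : (algebraMap A (Localization.Away a)).comp φ.hom = algebraMap R (Localization.Away a) :=
    (IsScalarTower.algebraMap_eq R A (Localization.Away a)).symm
  rw [he, RingHom.formallyUnramified_algebraMap]
  exact hfu

theorem exists_nhd_of_baseChange {X S S' : Scheme.{u}} (f : X ⟶ S) [LocallyOfFiniteType f] (g : S' ⟶ S)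
    (x' : ↑(pullback f g)) (U' : (pullback f g).Opens) (hx' : x' ∈ U')
    (hU' : FormallyUnramified (U'.ι ≫ pullback.snd f g)) :
    ∃ U : X.Opens, pullback.fst f g x' ∈ U ∧ FormallyUnramified (U.ι ≫ f) := by
  obtain ⟨V, hV, hxV, -⟩ := exists_isAffineOpen_mem_and_subset
    (show f (pullback.fst f g x') ∈ (⊤ : S.Opens) from trivial)
  obtain ⟨U, hU, hxU, hUV⟩ := exists_isAffineOpen_mem_and_subset
    (show pullback.fst f g x' ∈ f ⁻¹ᵁ V from hxV)
  obtain ⟨V', hV', hxV', hV'V⟩ := exists_isAffineOpen_mem_and_subset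
    (show pullback.snd f g x' ∈ g ⁻¹ᵁ V by
      change g (pullback.snd f g x') ∈ V
      rw [← Scheme.Hom.comp_apply, ← pullback.condition, Scheme.Hom.comp_apply]
      exact hxV)
  have hl1 : U ≤ f ⁻¹ᵁ V := hUV
  have hl2 : V' ≤ g ⁻¹ᵁ V := hV'V
  have H := IsPullback.of_hasPullback f g
  let W := pullback.fst f g ⁻¹ᵁ U ⊓ pullback.snd f g ⁻¹ᵁ V'
  have hW : IsAffineOpen W := by
    haveI : IsAffine _ := hV
    haveI : IsAffine _ := hV'
    haveI : IsAffine _ := hU
    exact .of_isIso (Scheme.Hom.isPullback_resLE H hl2 hl1 (UY := W) rfl).isoPullback.hom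
  have hpo := (isIso_pushoutSection_iff H hl2 hl1 (UY := W) rfl).1
    (isIso_pushoutSection_of_isAffineOpen H hl2 hl1 rfl hV hV' hU)
  obtain ⟨b, hb, hxb⟩ := hW.exists_basicOpen_le (V := U') ⟨x', hx'⟩ ⟨hxU, hxV'⟩
  have hxW : x' ∈ W := ⟨hxU, hxV'⟩
  let q' : PrimeSpectrum Γ(pullback f g, W) := hW.primeIdealOf ⟨x', hxW⟩
  have hq' : hW.fromSpec q' = x' := hW.fromSpec_primeIdealOf ⟨x', hxW⟩
  have hbq : b ∉ q'.asIdeal := by
    have : q' ∈ hW.fromSpec ⁻¹ᵁ (pullback f g).basicOpen b := by
      change hW.fromSpec q' ∈ (pullback f g).basicOpen b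
      rw [hq']; exact hxb
    rwa [hW.fromSpec_preimage_basicOpen] at this
  haveI hloc := hW.isLocalization_basicOpen b
  have hle : (pullback f g).basicOpen b ≤ pullback.snd f g ⁻¹ᵁ V' :=
    ((pullback f g).basicOpen_le b).trans inf_le_right
  have hfu : ((pullback.snd f g).appLE V' W inf_le_right ≫
      (pullback f g).presheaf.map (homOfLE ((pullback f g).basicOpen_le b)).op).hom.FormallyUnramified := by
    rw [Scheme.Hom.appLE_map]
    haveI := hU'
    have h0 : FormallyUnramified ((hW.basicOpen b).fromSpec ≫ pullback.snd f g) := by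
      rw [← (hW.basicOpen b).isoSpec_inv_ι, Category.assoc, ← Scheme.homOfLE_ι (pullback f g) hb,
        Category.assoc]
      exact MorphismProperty.comp_mem _ _ _ inferInstance (MorphismProperty.comp_mem _ _ _ inferInstance hU')
    rw [← hV'.SpecMap_appLE_fromSpec (pullback.snd f g) (hW.basicOpen b) hle] at h0
    haveI := h0
    exact HasRingHomProperty.Spec_iff.1
      (FormallyUnramified.of_comp (Spec.map ((pullback.snd f g).appLE V' _ hle)) hV'.fromSpec)
  obtain ⟨a, ha, hA⟩ := mem_unramifiedLocus_appLE hpo (f.finiteType_appLE hV hU hl1) q' b hbq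
    ((pullback f g).presheaf.map (homOfLE ((pullback f g).basicOpen_le b)).op) hloc hfu
  have hxa : pullback.fst f g x' ∈ X.basicOpen a := by
    have h1 : hU.fromSpec (Spec.map ((pullback.fst f g).appLE U W inf_le_left) q') = pullback.fst f g x' := by
      rw [← Scheme.Hom.comp_apply, hU.SpecMap_appLE_fromSpec _ hW, Scheme.Hom.comp_apply, hq']
    rw [← h1]
    change Spec.map _ q' ∈ hU.fromSpec ⁻¹ᵁ X.basicOpen a
    rw [hU.fromSpec_preimage_basicOpen]
    exact ha
  refine ⟨X.basicOpen a, hxa, ?_⟩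
  haveI := hU.isLocalization_basicOpen a
  have hle' : X.basicOpen a ≤ f ⁻¹ᵁ V := (X.basicOpen_le a).trans hl1
  have hA' : (f.appLE V (X.basicOpen a) hle').hom.FormallyUnramified := by
    let e : CommRingCat.of (Localization.Away a) ≅ Γ(X, X.basicOpen a) :=
      (IsLocalization.algEquiv (.powers a) (Localization.Away a) Γ(X, X.basicOpen a)).toRingEquiv.toCommRingCatIso
    have he : (f.appLE V U hl1 ≫ CommRingCat.ofHom (algebraMap Γ(X, U) (Localization.Away a))) ≫ e.hom =
        f.appLE V (X.basicOpen a) hle' := by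
      rw [← Scheme.Hom.appLE_map f hl1 (homOfLE (X.basicOpen_le a)).op, Category.assoc]
      congr 1
      ext t
      exact (IsLocalization.algEquiv (.powers a) (Localization.Away a) Γ(X, X.basicOpen a)).commutes t
    rw [← he, CommRingCat.hom_comp]
    exact (RingHom.FormallyUnramified.propertyIsLocal.respectsIso.cancel_right_isIso _ _).2 hA
  have key : (hU.basicOpen a).fromSpec ≫ f = Spec.map (f.appLE V (X.basicOpen a) hle') ≫ hV.fromSpec :=
    (hV.SpecMap_appLE_fromSpec f (hU.basicOpen a) hle').symm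
  rw [(Iso.inv_comp_eq _).1 (hU.basicOpen a).isoSpec_inv_ι]
  rw [Category.assoc, key]
  haveI : FormallyUnramified (Spec.map (f.appLE V (X.basicOpen a) hle')) :=
    HasRingHomProperty.Spec_iff.2 hA'
  exact MorphismProperty.comp_mem _ _ _ inferInstance
    (MorphismProperty.comp_mem _ _ _ inferInstance inferInstance)

theorem exists_nhd_baseChange {X S S' : Scheme.{u}} (P : MorphismProperty Scheme.{u})
    [P.IsStableUnderBaseChange] (f : X ⟶ S) (g : S' ⟶ S)
    (x' : ↑(pullback f g)) (U : X.Opens) (hx : pullback.fst f g x' ∈ U) (hU : P (U.ι ≫ f)) :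
    ∃ U' : (pullback f g).Opens, x' ∈ U' ∧ P (U'.ι ≫ pullback.snd f g) :=
  ⟨pullback.fst f g ⁻¹ᵁ U, hx, MorphismProperty.of_isPullback
    ((isPullback_morphismRestrict (pullback.fst f g) U).paste_vert (IsPullback.of_hasPullback f g)) hU⟩

end Groth.Agent.UnramPt
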